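import Mathlib

/-!
Common factors of binary forms.
-/

set_option autoImplicit false
universe u
open MvPolynomial

namespace BinHom13

variable {k : Type u} [Field k]

/-- Restriction to the line through `a`. -/
noncomputable def onLine (a : Fin 2 → k) : MvPolynomial (Fin 2) k →ₐ[k] Polynomial k :=
  aeval (fun i => Polynomial.C (a i) * Polynomial.X)

/-- The linear form vanishing at `a`. -/
noncomputable def lin (a : Fin 2 → k) : MvPolynomial (Fin 2) k := C (a 1) * X 0 - C (a 0) * X 1

theorem isHomogeneous_lin (a : Fin 2 → k) : (lin a).IsHomogeneous 1 :=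
  ((isHomogeneous_C_mul_X _ 0).sub (isHomogeneous_C_mul_X _ 1))

theorem eval_lin (a : Fin 2 → k) : eval a (lin a) = 0 := by simp [lin]; ring

theorem exists_bezout {a : Fin 2 → k} (ha : a ≠ 0) : ∃ c₀ c₁ : k, c₀ * a 0 + c₁ * a 1 = 1 := by
  by_cases h0 : a 0 = 0
  · have h1 : a 1 ≠ 0 := fun h => ha (funext fun i => by fin_cases i <;> simp [h0, h])
    exact ⟨0, (a 1)⁻¹, by simp [h1]⟩
  · exact ⟨(a 0)⁻¹, 0, by simp [h0]⟩

theorem lin_ne_zero {a : Fin 2 → k} (ha : a ≠ 0) : lin a ≠ 0 := fun h => by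
  obtain ⟨c₀, c₁, hc⟩ := exists_bezout ha
  have := congrArg (eval ![c₁, -c₀]) h
  simp [lin] at this
  exact one_ne_zero (show (1 : k) = 0 by linear_combination this - hc)

theorem lin_dvd {a : Fin 2 → k} (ha : a ≠ 0) {G : MvPolynomial (Fin 2) k} (hG : onLine a G = 0) :
    lin a ∣ G := by
  obtain ⟨c₀, c₁, hc⟩ := exists_bezout ha
  have hC : (C c₀ * C (a 0) + C c₁ * C (a 1) : MvPolynomial (Fin 2) k) = 1 := by
    rw [← C_mul, ← C_mul, ← C_add, hc, C_1]
  let M : MvPolynomial (Fin 2) k := C c₀ * X 0 + C c₁ * X 1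
  let q := Ideal.Quotient.mkₐ k (Ideal.span {lin a})
  have key : q.comp ((Polynomial.aeval M).comp (onLine a)) = q := by
    refine MvPolynomial.algHom_ext fun i => ?_
    show Ideal.Quotient.mk (Ideal.span {lin a}) (Polynomial.aeval M (onLine a (X i))) =
      Ideal.Quotient.mk (Ideal.span {lin a}) (X i)
    rw [Ideal.Quotient.eq, Ideal.mem_span_singleton]
    simp only [onLine, aeval_X, map_mul, Polynomial.aeval_C, Polynomial.aeval_X, MvPolynomial.algebraMap_eq]
    fin_cases i
    · exact ⟨-C c₁, by simp only [lin, M, Fin.zero_eta, Fin.isValue]; linear_combination (X 0) * hC⟩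
    · exact ⟨C c₀, by simp only [lin, M, Fin.mk_one, Fin.isValue]; linear_combination (X 1) * hC⟩
  have h2 := DFunLike.congr_fun key G
  simp only [AlgHom.comp_apply, hG, map_zero] at h2
  exact Ideal.mem_span_singleton.1 (Ideal.Quotient.eq_zero_iff_mem.1 h2.symm)

theorem onLine_homogeneous (a : Fin 2 → k) {F : MvPolynomial (Fin 2) k} {d : ℕ}
    (hF : F.IsHomogeneous d) : onLine a F = Polynomial.C (eval a F) * Polynomial.X ^ d := by
  conv_lhs => rw [F.as_sum]
  conv_rhs => rw [F.as_sum]
  rw [map_sum, map_sum, map_sum, Finset.sum_mul]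
  refine Finset.sum_congr rfl fun s hs => ?_
  have hd : d = s 0 + s 1 := by
    have h := hF.degree_eq_sum_deg_support hs
    rw [h, Finset.sum_subset (Finset.subset_univ s.support) (fun x _ hx => by simpa using hx),
      Fin.sum_univ_two]
  rw [hd]
  simp only [onLine, aeval_monomial, eval_monomial]
  rw [Finsupp.prod_fintype _ _ (fun i => pow_zero _), Finsupp.prod_fintype _ _ (fun i => pow_zero _)]
  simp only [Fin.prod_univ_two, map_mul, map_pow, mul_pow, Polynomial.algebraMap_eq]
  ring

theorem onLine_lin (a : Fin 2 → k) : onLine a (lin a) = 0 := by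
  rw [onLine_homogeneous a (isHomogeneous_lin a), eval_lin, map_zero, zero_mul]

theorem dvd_or_dvd {a : Fin 2 → k} (ha : a ≠ 0) {G H : MvPolynomial (Fin 2) k}
    (h : lin a ∣ G * H) : lin a ∣ G ∨ lin a ∣ H := by
  obtain ⟨c, hc⟩ := h
  have : onLine a G * onLine a H = 0 := by rw [← map_mul, hc, map_mul, onLine_lin, zero_mul]
  exact (mul_eq_zero.1 this).imp (lin_dvd ha) (lin_dvd ha)

theorem hc_mul {A : MvPolynomial (Fin 2) k} {e : ℕ} (hA : A.IsHomogeneous e)
    (G : MvPolynomial (Fin 2) k) (n : ℕ) :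
    homogeneousComponent (n + e) (A * G) = A * homogeneousComponent n G := by
  conv_lhs => rw [← sum_homogeneousComponent G, Finset.mul_sum]
  rw [map_sum]
  have : ∀ i, homogeneousComponent (n + e) (A * homogeneousComponent i G) =
      if i = n then A * homogeneousComponent i G else 0 := by
    intro i
    rw [homogeneousComponent_of_mem (n := e + i)
      ((mem_homogeneousSubmodule _ _).2 (hA.mul (homogeneousComponent_isHomogeneous i G)))]
    by_cases h : i = n
    · rw [if_pos h, if_pos (by omega)]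
    · rw [if_neg h, if_neg (by omega)]
  rw [Finset.sum_congr rfl fun i _ => this i, Finset.sum_ite_eq']
  split_ifs with h
  · rfl
  · rw [homogeneousComponent_eq_zero n G (by simp at h; omega), mul_zero]

variable [IsAlgClosed k]

theorem exists_zero {F : MvPolynomial (Fin 2) k} {d : ℕ} (hF : F.IsHomogeneous d) (hd : 0 < d) :
    ∃ a : Fin 2 → k, a ≠ 0 ∧ eval a F = 0 := by
  by_cases h10 : eval ![1, 0] F = 0
  · exact ⟨![1, 0], fun h => one_ne_zero (congrFun h 0), h10⟩
  let p : Polynomial k := aeval ![Polynomial.X, 1] F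
  have hp : ∀ t : k, p.eval t = eval ![t, 1] F := fun t => by
    have : (Polynomial.evalRingHom t).comp (aeval ![Polynomial.X, 1] : MvPolynomial (Fin 2) k →ₐ[k] _).toRingHom
        = eval ![t, 1] := by
      refine MvPolynomial.ringHom_ext (fun r => ?_) fun i => ?_
      · simp
      · fin_cases i <;> simp
    exact DFunLike.congr_fun this F
  by_cases hc : p.degree = 0
  · exfalso
    -- a constant dehomogenisation forces `F(1, 0) = 0`
    refine h10 ?_
    obtain ⟨c, hpc⟩ : ∃ c, p = Polynomial.C c := ⟨_, Polynomial.eq_C_of_degree_le_zero hc.le⟩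
    have hscale : ∀ s : k, s ≠ 0 → eval ![1, s] F = c * s ^ d := fun s hs => by
      have h1 := onLine_homogeneous ![1 / s, 1] hF
      have h2 := congrArg (Polynomial.eval s) h1
      rw [← hp, hpc, Polynomial.eval_C] at h2
      simp only [Polynomial.eval_mul, Polynomial.eval_C, Polynomial.eval_pow, Polynomial.eval_X] at h2
      rw [← h2]
      have : (Polynomial.evalRingHom s).comp (onLine ![1 / s, 1]).toRingHom = eval ![1, s] := by
        refine MvPolynomial.ringHom_ext (fun r => ?_) fun i => ?_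
        · simp [onLine]
        · fin_cases i <;> simp [onLine, hs]
      exact (DFunLike.congr_fun this F).symm
    let q : Polynomial k := aeval ![1, Polynomial.X] F - Polynomial.C c * Polynomial.X ^ d
    have hq : ∀ s : k, q.eval s = eval ![1, s] F - c * s ^ d := fun s => by
      have : (Polynomial.evalRingHom s).comp (aeval ![1, Polynomial.X] : MvPolynomial (Fin 2) k →ₐ[k] _).toRingHom
          = eval ![1, s] := by
        refine MvPolynomial.ringHom_ext (fun r => ?_) fun i => ?_
        · simp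
        · fin_cases i <;> simp
      simp only [q, Polynomial.eval_sub, Polynomial.eval_mul, Polynomial.eval_C, Polynomial.eval_pow,
        Polynomial.eval_X]
      rw [← DFunLike.congr_fun this F]
      rfl
    have hq0 : q = 0 := Polynomial.eq_zero_of_infinite_isRoot q <|
      ((Set.finite_singleton (0 : k)).infinite_compl).mono fun s hs => by
        show q.eval s = 0
        rw [hq, hscale s hs, sub_self]
    have := hq 0
    rw [hq0, Polynomial.eval_zero, zero_pow hd.ne', mul_zero, sub_zero] at this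
    exact this.symm
  · obtain ⟨t, ht⟩ := IsAlgClosed.exists_root p hc
    exact ⟨![t, 1], fun h => one_ne_zero (congrFun h 1), (hp t).symm.trans ht⟩

theorem zero_of_dvd : ∀ (d : ℕ) (F H : MvPolynomial (Fin 2) k), F.IsHomogeneous d → F ≠ 0 →
    ¬ IsUnit H → H ∣ F → ∃ a : Fin 2 → k, a ≠ 0 ∧ eval a H = 0 := by
  intro d
  induction d with
  | zero =>
    intro F H hF hF0 hH hdvd
    refine absurd (isUnit_of_dvd_unit hdvd ?_) hH
    rw [← homogeneousComponent_eq_self hF, homogeneousComponent_zero] at hF0 ⊢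
    exact (isUnit_iff_ne_zero.2 (by simpa using hF0)).map C
  | succ d ih =>
    intro F H hF hF0 hH hdvd
    obtain ⟨a, ha, hFa⟩ := exists_zero hF d.succ_pos
    obtain ⟨F', rfl⟩ := lin_dvd ha (G := F) (by rw [onLine_homogeneous a hF, hFa, map_zero, zero_mul])
    obtain ⟨K, hK⟩ := hdvd
    rcases dvd_or_dvd ha ⟨F', hK.symm⟩ with ⟨H', rfl⟩ | ⟨K', rfl⟩
    · exact ⟨a, ha, by rw [map_mul, eval_lin, zero_mul]⟩
    have h1 := hc_mul (isHomogeneous_lin a) F' d
    rw [homogeneousComponent_eq_self hF] at h1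
    have hF' : F' = homogeneousComponent d F' := mul_left_cancel₀ (lin_ne_zero ha) h1
    refine ih F' H (hF' ▸ homogeneousComponent_isHomogeneous d F') (right_ne_zero_of_mul hF0) hH ⟨K', ?_⟩
    exact mul_left_cancel₀ (lin_ne_zero ha) (hK.trans (mul_left_comm _ _ _))

theorem common_factor_iff {n : ℕ} (F : Fin n → MvPolynomial (Fin 2) k)
    (d : Fin n → ℕ) (hF : ∀ i, (F i).IsHomogeneous (d i)) :
    (∃ H : MvPolynomial (Fin 2) k, ¬ IsUnit H ∧ ∀ i, H ∣ F i) ↔
      ∃ a : Fin 2 → k, a ≠ 0 ∧ ∀ i, eval a (F i) = 0 := by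
  constructor
  · rintro ⟨H, hH, hdvd⟩
    by_cases h0 : ∀ i, F i = 0
    · exact ⟨![1, 0], fun h => one_ne_zero (congrFun h 0), fun i => by rw [h0 i, map_zero]⟩
    push Not at h0
    obtain ⟨i, hi⟩ := h0
    obtain ⟨a, ha, hHa⟩ := zero_of_dvd (d i) _ H (hF i) hi hH (hdvd i)
    exact ⟨a, ha, fun j => by obtain ⟨c, hc⟩ := hdvd j; rw [hc, map_mul, hHa, zero_mul]⟩
  · rintro ⟨a, ha, h⟩
    refine ⟨lin a, fun hu => ?_, fun i => lin_dvd ha (by
      rw [onLine_homogeneous a (hF i), h i, map_zero, zero_mul])⟩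
    have := hu.map (eval a)
    rw [eval_lin] at this
    exact not_isUnit_zero this

theorem span_degree_iff {n : ℕ} (F : Fin n → MvPolynomial (Fin 2) k)
    (d : ℕ) (hF : ∀ i, (F i).IsHomogeneous d) :
    (¬ ∃ H : MvPolynomial (Fin 2) k, ¬ IsUnit H ∧ ∀ i, H ∣ F i) ↔
      ∃ m : ℕ, d ≤ m ∧ ∀ P : MvPolynomial (Fin 2) k, P.IsHomogeneous m →
        ∃ G : Fin n → MvPolynomial (Fin 2) k, (∀ i, (G i).IsHomogeneous (m - d)) ∧
          P = ∑ i, F i * G i := by
  rw [common_factor_iff F (fun _ => d) hF]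
  constructor
  · intro h
    let I : Ideal (MvPolynomial (Fin 2) k) := Ideal.span (Set.range F)
    have hle : idealOfVars (Fin 2) k ≤ I.radical := by
      rw [← vanishingIdeal_zeroLocus_eq_radical (K := k) I, idealOfVars, Ideal.span_le]
      rintro _ ⟨j, rfl⟩ a ha
      by_contra hj
      refine h ⟨a, fun h0 => hj (by simp [h0]), fun i => ?_⟩
      exact ha (F i) (Ideal.subset_span ⟨i, rfl⟩)
    obtain ⟨N, hN⟩ := Ideal.exists_pow_le_of_le_radical_of_fg hle (IsNoetherian.noetherian _)
    refine ⟨max d N, le_max_left _ _, fun P hP => ?_⟩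
    have hPm : P ∈ I := hN <| (mem_pow_idealOfVars_iff N P).2 fun s hs => by
      have := hP.degree_eq_sum_deg_support hs
      rw [Finsupp.degree_apply, ← this]
      exact le_max_right _ _
    obtain ⟨c, hc⟩ := Ideal.mem_span_range_iff_exists_fun.1 hPm
    refine ⟨fun i => homogeneousComponent (max d N - d) (c i),
      fun i => homogeneousComponent_isHomogeneous _ _, ?_⟩
    conv_lhs => rw [← homogeneousComponent_eq_self hP, ← hc, map_sum]
    refine Finset.sum_congr rfl fun i _ => ?_
    rw [← hc_mul (hF i), Nat.sub_add_cancel (le_max_left _ _), mul_comm]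
  · rintro ⟨m, -, hm⟩ ⟨a, ha, hFa⟩
    obtain ⟨c₀, c₁, hc⟩ := exists_bezout ha
    have hM : (C c₀ * X 0 + C c₁ * X 1 : MvPolynomial (Fin 2) k).IsHomogeneous 1 :=
      (isHomogeneous_C_mul_X _ 0).add (isHomogeneous_C_mul_X _ 1)
    obtain ⟨G, -, hG⟩ := hm _ (by simpa using hM.pow m)
    have := congrArg (eval a) hG
    simp [hFa, hc] at this

end BinHom13
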